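import Mathlib
import Cfsg.Prelude.Def_EvenType

/-!
Criteria for 2-rank at least three.
-/

set_option autoImplicit false

namespace CfsgLib.RankThree

/-- The property passes to isomorphic groups. -/
theorem of_equiv {G H : Type*} [Group G] [Group H] (e : G ≃* H)
    (h : Cfsg.PRankAtLeast 2 3 H) : Cfsg.PRankAtLeast 2 3 G := by
  obtain ⟨A, hc, ha, hcard⟩ := h
  refine ⟨A.map e.symm.toMonoidHom, ⟨⟨?_⟩⟩, ?_, ?_⟩
  · rintro ⟨_, a, ha', rfl⟩ ⟨_, b, hb', rfl⟩
    refine Subtype.ext ?_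
    show e.symm a * e.symm b = e.symm b * e.symm a
    rw [← map_mul, ← map_mul]
    exact congrArg e.symm (congrArg Subtype.val (hc.is_comm.comm ⟨a, ha'⟩ ⟨b, hb'⟩))
  · rintro _ ⟨a, ha', rfl⟩
    show e.symm a ^ 2 = 1
    rw [← map_pow, ha a ha', map_one]
  · rw [Subgroup.card_map_of_injective e.symm.injective]
    exact hcard

/-- An injective additive family of involutions of size at least eight gives 2-rank three. -/
theorem of_map {G A : Type*} [Group G] [AddCommGroup A] (h2 : ∀ a : A, a + a = 0) (f : A → G)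
    (hadd : ∀ a b, f (a + b) = f a * f b) (hinj : ∀ a, f a = 1 → a = 0) (hcard : 8 ≤ Nat.card A) :
    Cfsg.PRankAtLeast 2 3 G := by
  have h0 : f 0 = 1 := by
    have := hadd 0 0
    rw [add_zero] at this
    exact left_eq_mul.1 this
  let F : Multiplicative A →* G := MonoidHom.mk' (fun a => f a.toAdd) (fun a b => hadd _ _)
  have hF : Function.Injective F := (injective_iff_map_eq_one F).2 fun a ha =>
    toAdd_eq_zero.1 (hinj a.toAdd ha)
  refine ⟨F.range, ⟨⟨?_⟩⟩, ?_, ?_⟩
  · rintro ⟨_, a, rfl⟩ ⟨_, b, rfl⟩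
    refine Subtype.ext ?_
    show F a * F b = F b * F a
    rw [← map_mul, ← map_mul, mul_comm]
  · rintro _ ⟨a, rfl⟩
    rw [← map_pow, pow_two, show a * a = 1 from toAdd_eq_zero.1 (h2 a.toAdd), map_one]
  · rw [← Nat.card_congr (MonoidHom.ofInjective hF).toEquiv]
    exact hcard

/-- Injectivity modulo the centre. -/
theorem of_map_quotient {G A : Type*} [Group G] [AddCommGroup A] (h2 : ∀ a : A, a + a = 0)
    (f : A → G) (hadd : ∀ a b, f (a + b) = f a * f b)
    (hinj : ∀ a, f a ∈ Subgroup.center G → a = 0) (hcard : 8 ≤ Nat.card A) :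
    Cfsg.PRankAtLeast 2 3 (G ⧸ Subgroup.center G) :=
  of_map h2 (fun a => (f a : G ⧸ Subgroup.center G)) (fun a b => by simp [hadd])
    (fun a ha => hinj a ((QuotientGroup.eq_one_iff _).1 ha)) hcard

/-- Three commuting involutions with no product relation give 2-rank three. -/
theorem of_triple {G : Type*} [Group G] {a b c : G} (ha : a * a = 1) (hb : b * b = 1)
    (hc : c * c = 1) (hab : Commute a b) (hac : Commute a c) (hbc : Commute b c)
    (hind : ∀ i j k : Fin 2, a ^ (i : ℕ) * b ^ (j : ℕ) * c ^ (k : ℕ) = 1 → i = 0 ∧ j = 0 ∧ k = 0) :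
    Cfsg.PRankAtLeast 2 3 G := by
  have hp : ∀ {x : G}, x * x = 1 → ∀ u v : ZMod 2, x ^ (u + v).val = x ^ u.val * x ^ v.val := by
    intro x hx u v
    rw [← pow_add, ZMod.val_add, ← pow_eq_pow_mod _ (by rw [pow_two, hx])]
  refine of_map (A := Fin 3 → ZMod 2)
    (fun v => by funext i; exact CharTwo.add_self_eq_zero _)
    (fun v => a ^ (v 0).val * b ^ (v 1).val * c ^ (v 2).val) (fun u v => ?_) (fun v hv => ?_)
    (by simp)
  · simp only [Pi.add_apply, hp ha, hp hb, hp hc]
    rw [← mul_assoc (a ^ (u 0).val * b ^ (u 1).val * c ^ (u 2).val) (a ^ (v 0).val * b ^ (v 1).val),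
      ← mul_assoc (a ^ (u 0).val * b ^ (u 1).val * c ^ (u 2).val) (a ^ (v 0).val)]
    have e1 : Commute (a ^ (v 0).val) (b ^ (u 1).val) := hab.pow_pow _ _
    have e2 : Commute (a ^ (v 0).val) (c ^ (u 2).val) := hac.pow_pow _ _
    have e3 : Commute (b ^ (v 1).val) (c ^ (u 2).val) := hbc.pow_pow _ _
    simp only [mul_assoc]
    rw [← e2.left_comm, ← e1.left_comm, e3.left_comm]
  · obtain ⟨h0, h1, h2⟩ := hind _ _ _ hv
    funext i
    fin_cases i <;> assumption

end CfsgLib.RankThree
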