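import Cfsg.Agent.Lib.Classif.RankThree.RootWords
import Cfsg.Agent.Lib.ChevStr.InstanceTables
import Cfsg.Agent.Lib.Twisted.TypeD4
import Cfsg.Agent.Lib.Twisted.TypeE6
import Cfsg.Agent.Lib.Twisted.TypeF4
import Cfsg.Prelude.Def_LieTwisted

/-!
The exceptional and twisted groups in characteristic 2 have 2-rank at least three.
-/

set_option autoImplicit false

namespace CfsgLib.RankThree

open Cfsg.Lie CfsgLib.ChevStr CfsgLib.Twisted
open scoped MatrixGroups commutatorElement

/-- Positive roots are the upper half. -/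
def upper (D : ChevalleyDatum) (r : ℕ) : Bool := decide (D.nroots / 2 ≤ r) && decide (r < D.nroots)

theorem upper_pos {D : ChevalleyDatum}
    (h : ∀ r : Fin D.nroots, D.nroots / 2 ≤ r.val → D.IsPosRoot r.val) :
    ∀ r, upper D r = true → D.IsPosRoot r := by
  intro r hr
  simp only [upper, Bool.and_eq_true, decide_eq_true_eq] at hr
  exact h ⟨r, hr.2⟩ hr.1

theorem upper_facts :
    (∀ r : Fin chevG2.nroots, chevG2.nroots / 2 ≤ r.val → chevG2.IsPosRoot r.val) ∧
    (∀ r : Fin chevF4.nroots, chevF4.nroots / 2 ≤ r.val → chevF4.IsPosRoot r.val) ∧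
    (∀ r : Fin chevE6.nroots, chevE6.nroots / 2 ≤ r.val → chevE6.IsPosRoot r.val) ∧
    (∀ r : Fin chevE7.nroots, chevE7.nroots / 2 ≤ r.val → chevE7.IsPosRoot r.val) ∧
    (∀ r : Fin chevE8.nroots, chevE8.nroots / 2 ≤ r.val → chevE8.IsPosRoot r.val) ∧
    (∀ r : Fin chevD4.nroots, chevD4.nroots / 2 ≤ r.val → chevD4.IsPosRoot r.val) := by
  refine ⟨?_, ?_, ?_, ?_, ?_, ?_⟩ <;> decide +kernel

theorem chev_data :
    (tripleOK chevG2 (upper chevG2) [11] [10] [9] &&
    tripleOK chevF4 (upper chevF4) [47] [46] [45] &&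
    tripleOK chevE6 (upper chevE6) [71] [70] [69] &&
    tripleOK chevE7 (upper chevE7) [125] [124] [123] &&
    tripleOK chevE8 (upper chevE8) [239] [238] [237] &&
    tripleOK chevD4 (upper chevD4) [23] [22] [17, 20, 21] &&
    tripleOK chevF4 (upper chevF4) [44, 47] [40, 46] [39, 40, 44, 45, 46, 47]) = true := by
  decide +kernel

section chev

variable {F : Type*} [Field F] [CharP F 2]

theorem of_root_words {D : ChevalleyDatum} (C : ChevCore D F) {a b c : List ℕ}
    (hu : ∀ r : Fin D.nroots, D.nroots / 2 ≤ r.val → D.IsPosRoot r.val)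
    (h : tripleOK D (upper D) a b c = true) : Cfsg.PRankAtLeast 2 3 (D.group F) :=
  of_words C (upper_pos hu) h (C.wordGL_mem_group _) (C.wordGL_mem_group _) (C.wordGL_mem_group _)

theorem exceptional :
    Cfsg.PRankAtLeast 2 3 (chevG2.group F) ∧ Cfsg.PRankAtLeast 2 3 (chevF4.group F) ∧
    Cfsg.PRankAtLeast 2 3 (chevE6.group F) ∧ Cfsg.PRankAtLeast 2 3 (chevE7.group F) ∧
    Cfsg.PRankAtLeast 2 3 (chevE8.group F) := by
  have h := chev_data
  simp only [Bool.and_eq_true] at h
  obtain ⟨uG, uF, u6, u7, u8, -⟩ := upper_facts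
  obtain ⟨⟨⟨⟨⟨⟨hG, hF⟩, h6⟩, h7⟩, h8⟩, -⟩, -⟩ := h
  exact ⟨of_root_words (coreG2 F) uG hG, of_root_words (coreF4 F) uF hF,
    of_root_words (coreE6 F) u6 h6, of_root_words (coreE7 F) u7 h7, of_root_words (coreE8 F) u8 h8⟩

theorem ε_eq_one {D : ChevalleyDatum} {C : ChevCore D F} (φ : Frob C) (r : Fin D.nroots) :
    φ.ε r = 1 :=
  (φ.ε_unit r).elim id fun h => h.trans (CharTwo.neg_eq _)

theorem act_W {D : ChevalleyDatum} {C : ChevCore D F} (φ : Frob C) {root : ℕ → ℕ}
    (hρ : ∀ r : Fin D.nroots, (φ.ρ r : ℕ) = root r) :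
    ∀ w : List ℕ, (∀ r ∈ w, r < D.nroots) → φ.act (W C w) = W C (w.map root)
  | [], _ => φ.act_one
  | a :: w, h => by
    rw [W_cons, φ.act_mul (C.xGL_mem_group _ _) (show W C w ∈ D.group F from C.wordGL_mem_group _),
      act_W φ hρ w (fun r hr => h r (List.mem_cons_of_mem _ hr)),
      φ.act_word hρ (h a List.mem_cons_self), ε_eq_one, one_pow, mul_one, List.map_cons, W_cons]

/-- A word in positive roots fixed by the root permutation gives an element of the fixed group. -/
def fixedOK (D : ChevalleyDatum) (root : ℕ → ℕ) (w : List ℕ) : Bool :=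
  (collect D 400 (w.map root) == collect D 400 w) && w.all (upper D)

theorem W_mem {D : ChevalleyDatum} {C : ChevCore D F} (φ : Frob C) {root : ℕ → ℕ}
    (hρ : ∀ r : Fin D.nroots, (φ.ρ r : ℕ) = root r)
    (hu : ∀ r : Fin D.nroots, D.nroots / 2 ≤ r.val → D.IsPosRoot r.val)
    {G1 : Subgroup (GL D.Idx F)} (hle : φ.fixU {r | D.IsPosRoot r} ≤ G1) {w : List ℕ}
    (h : fixedOK D root w = true) : W C w ∈ G1 := by
  simp only [fixedOK, Bool.and_eq_true, beq_iff_eq, List.all_eq_true] at h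
  have hpos : ∀ r ∈ w, D.IsPosRoot r := fun r hr => upper_pos hu r (h.2 r hr)
  refine hle ?_
  refine Subgroup.mem_inf.2 ⟨C.Ucl_mono hpos (C.word_mem w _), C.wordGL_mem_group _, ?_⟩
  rw [act_W φ hρ w fun r hr => (hpos r hr).1]
  exact W_eq_of_collect C 400 h.1

theorem W_reverse {D : ChevalleyDatum} (C : ChevCore D F) :
    ∀ w : List ℕ, W C w.reverse = (W C w)⁻¹
  | [] => by simp [W_nil]
  | a :: w => by
    rw [List.reverse_cons, W_append, W_reverse C w, W_cons, W_cons, W_nil, mul_one, mul_inv_rev,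
      C.xGL_inv, CharTwo.neg_eq]

end chev

theorem twisted_data :
    ([[23], [22], [17, 20, 21]].all (fixedOK chevD4 d4aSym.root) &&
    [[71], [70], [69]].all (fixedOK chevE6 e6Sym.root) &&
    [[24, 33], [28, 30], [36, 42], [38, 43], [40, 46], [44, 47],
      [39, 40, 44, 45, 46, 47]].all (fixedOK chevF4 subF4.root)) = true := by
  decide +kernel

variable (K : Type*) [Field K] [Fintype K]

theorem twistedD4' [CharP K 2] {q : ℕ} (hq : IsPrimePow q) (hK : Fintype.card K = q ^ 3) :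
    Cfsg.PRankAtLeast 2 3 (twistedD4 K q) := by
  obtain ⟨p, n, _, rfl, hn, h2⟩ := setupD4 K hq hK
  have hle := (gensD4 K hn h2).fixU_pos.1
  have h := twisted_data
  have hc := chev_data
  simp only [Bool.and_eq_true, List.all_cons, List.all_nil, and_true] at h hc
  obtain ⟨-, -, -, -, -, u⟩ := upper_facts
  exact of_words (coreD4 K) (upper_pos u) hc.1.2
    (W_mem (frobD4 K p n) (root := d4aSym.root) (fun _ => rfl) u hle h.1.1.1)
    (W_mem (frobD4 K p n) (root := d4aSym.root) (fun _ => rfl) u hle h.1.1.2.1)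
    (W_mem (frobD4 K p n) (root := d4aSym.root) (fun _ => rfl) u hle h.1.1.2.2)

theorem twistedE6' [CharP K 2] {q : ℕ} (hq : IsPrimePow q) (hK : Fintype.card K = q ^ 2) :
    Cfsg.PRankAtLeast 2 3 (twistedE6 K q) := by
  obtain ⟨p, n, _, rfl, hn, h2⟩ := setupE6 K hq hK
  have hle := (gensE6 K hn h2).fixU_pos.1
  have h := twisted_data
  have hc := chev_data
  simp only [Bool.and_eq_true, List.all_cons, List.all_nil, and_true] at h hc
  obtain ⟨-, -, u, -⟩ := upper_facts
  exact of_words (coreE6 K) (upper_pos u) hc.1.1.1.1.2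
    (W_mem (frobE6 K p n) (root := e6Sym.root) (fun _ => rfl) u hle h.1.2.1)
    (W_mem (frobE6 K p n) (root := e6Sym.root) (fun _ => rfl) u hle h.1.2.2.1)
    (W_mem (frobE6 K p n) (root := e6Sym.root) (fun _ => rfl) u hle h.1.2.2.2)

theorem twistedF4' {m : ℕ} (hK : Fintype.card K = 2 ^ (2 * m + 1)) :
    Cfsg.PRankAtLeast 2 3 (twistedF4 K (2 ^ m)) := by
  obtain ⟨_, hn⟩ := setupF4 K hK
  have hle := (gensF4 K hn).fixU_pos.1
  have h := twisted_data
  have hc := chev_data
  simp only [Bool.and_eq_true, List.all_cons, List.all_nil, and_true] at h hc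
  obtain ⟨-, u, -⟩ := upper_facts
  obtain ⟨-, -, -, -, -, h46, h47, h39⟩ :
      True ∧ fixedOK chevF4 subF4.root [24, 33] = true ∧ fixedOK chevF4 subF4.root [28, 30] = true ∧
      fixedOK chevF4 subF4.root [36, 42] = true ∧ fixedOK chevF4 subF4.root [38, 43] = true ∧
      fixedOK chevF4 subF4.root [40, 46] = true ∧ fixedOK chevF4 subF4.root [44, 47] = true ∧
      fixedOK chevF4 subF4.root [39, 40, 44, 45, 46, 47] = true := ⟨trivial, h.2⟩
  exact of_words (coreF4 K) (upper_pos u) hc.2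
    (W_mem (frobF4 K m) (root := subF4.root) (fun _ => rfl) u hle h47)
    (W_mem (frobF4 K m) (root := subF4.root) (fun _ => rfl) u hle h46)
    (W_mem (frobF4 K m) (root := subF4.root) (fun _ => rfl) u hle h39)

theorem tits_data :
    ([([24, 33], [40, 46], [44, 47]), ([28, 30], [38, 43], [40, 46]),
      ([28, 30], [36, 42], [39, 40, 44, 45, 46, 47])].all fun e =>
        collect chevF4 400 (e.1.reverse ++ e.2.1.reverse ++ e.1 ++ e.2.1) ==
          collect chevF4 400 e.2.2) = true := by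
  decide +kernel

theorem tits : Cfsg.PRankAtLeast 2 3 TitsGroup := by
  have : Fact (Nat.Prime 2) := ⟨Nat.prime_two⟩
  have hK : Fintype.card (ZMod 2) = 2 ^ (2 * 0 + 1) := ZMod.card 2
  obtain ⟨_, hn⟩ := setupF4 (ZMod 2) hK
  have hle : (frobF4 (ZMod 2) 0).fixU {r | chevF4.IsPosRoot r} ≤ twistedF4 (ZMod 2) 1 :=
    (gensF4 (ZMod 2) hn).fixU_pos.1
  have h := twisted_data
  have hc := chev_data
  have ht := tits_data
  simp only [Bool.and_eq_true, List.all_cons, List.all_nil, and_true, beq_iff_eq] at h hc ht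
  obtain ⟨-, u, -⟩ := upper_facts
  obtain ⟨h24, h28, h36, h38, h40, -, -⟩ := h.2
  set C := coreF4 (ZMod 2)
  have mem : ∀ {w}, fixedOK chevF4 subF4.root w = true → W C w ∈ twistedF4 (ZMod 2) 1 :=
    fun hw => W_mem (frobF4 (ZMod 2) 0) (root := subF4.root) (fun _ => rfl) u hle hw
  have key : ∀ {x y z : List ℕ}, fixedOK chevF4 subF4.root x = true →
      fixedOK chevF4 subF4.root y = true →
      collect chevF4 400 (x.reverse ++ y.reverse ++ x ++ y) = collect chevF4 400 z →
      W C z ∈ (commutator (twistedF4 (ZMod 2) 1)).map (twistedF4 (ZMod 2) 1).subtype := by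
    intro x y z hx hy he
    rw [← W_eq_of_collect C 400 he, W_append, W_append, W_append, W_reverse, W_reverse]
    let X : twistedF4 (ZMod 2) 1 := ⟨W C x, mem hx⟩
    let Y : twistedF4 (ZMod 2) 1 := ⟨W C y, mem hy⟩
    refine ⟨⁅X⁻¹, Y⁻¹⁆, Subgroup.commutator_mem_commutator trivial trivial, ?_⟩
    simp [commutatorElement_def, X, Y]
  exact of_equiv ((commutator (twistedF4 (ZMod 2) 1)).equivMapOfInjective _
      (Subgroup.subtype_injective _))
    (of_words C (upper_pos u) hc.2 (key h24 h40 ht.1) (key h28 h38 ht.2.1) (key h28 h36 ht.2.2))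

end CfsgLib.RankThree
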