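import Cfsg.Agent.Lib.ChevStr.Unipotent
import Cfsg.Agent.Lib.Classif.RankThree.Basic

/-!
A normal form for words in the root elements `x_r(1)` in characteristic 2, and elementary abelian
subgroups of order eight given by such words.
-/

set_option autoImplicit false

namespace CfsgLib.RankThree

open Cfsg.Lie CfsgLib.ChevStr
open scoped MatrixGroups

/-- The roots occurring with odd coefficient in the commutator formula. -/
def oddTerms (D : ChevalleyDatum) (r s : ℕ) : List ℕ :=
  ((D.commTerms r s).filter fun c => c.2.1 % 2 != 0).map fun c => c.1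

/-- One collection step. -/
def step (D : ChevalleyDatum) : List ℕ → List ℕ
  | [] => []
  | [a] => [a]
  | a :: b :: l =>
    if a == b then l
    else if decide (b < a) && decide (a < D.nroots) && a != D.neg b then
      b :: a :: (oddTerms D b a ++ l)
    else a :: step D (b :: l)

/-- Collection, with a bound on the number of steps. -/
def collect (D : ChevalleyDatum) : ℕ → List ℕ → List ℕ
  | 0, w => w
  | n + 1, w => collect D n (step D w)

/-- The collected word is a nonempty ordered product of positive roots. -/
def nontrivialWord (D : ChevalleyDatum) (pos : ℕ → Bool) (w : List ℕ) : Bool :=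
  !(collect D 400 w).isEmpty && decide ((collect D 400 w).Pairwise (· < ·)) &&
    (collect D 400 w).all pos

/-- The conditions on three words. -/
def tripleOK (D : ChevalleyDatum) (pos : ℕ → Bool) (a b c : List ℕ) : Bool :=
  (collect D 400 (a ++ a) == []) && (collect D 400 (b ++ b) == []) &&
    (collect D 400 (c ++ c) == []) &&
    (collect D 400 (a ++ b) == collect D 400 (b ++ a)) &&
    (collect D 400 (a ++ c) == collect D 400 (c ++ a)) &&
    (collect D 400 (b ++ c) == collect D 400 (c ++ b)) &&
    ([a, b, c, a ++ b, a ++ c, b ++ c, a ++ b ++ c].all (nontrivialWord D pos))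

variable {D : ChevalleyDatum} {F : Type*} [Field F] (C : ChevCore D F)

/-- The product of `x_r(1)` over a word. -/
def W (w : List ℕ) : GL D.Idx F := C.word w fun _ => 1

theorem W_nil : W C [] = 1 := rfl

theorem W_cons (a : ℕ) (w : List ℕ) : W C (a :: w) = C.xGL a 1 * W C w := C.word_cons _ _ _

theorem W_append (v w : List ℕ) : W C (v ++ w) = W C v * W C w := by
  simp only [W, ChevCore.word, List.map_append, C.wordGL_append]

variable [CharP F 2]

theorem wordGL_terms (l : List (ℕ × ℤ × ℕ × ℕ)) :
    C.wordGL (l.map fun c => (c.1, ((c.2.1 : ℤ) : F) * 1 ^ c.2.2.1 * 1 ^ c.2.2.2)) =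
      W C ((l.filter fun c => c.2.1 % 2 != 0).map fun c => c.1) := by
  induction l with
  | nil => rfl
  | cons c l ih =>
    rw [List.map_cons, C.wordGL_cons, ih]
    by_cases h : c.2.1 % 2 = 0
    · have : ((c.2.1 : ℤ) : F) = 0 := by
        rw [CharP.intCast_eq_zero_iff F 2]; exact Int.dvd_of_emod_eq_zero h
      simp [this, h, C.xGL_zero]
    · have : ((c.2.1 : ℤ) : F) = 1 := by
        have h1 : c.2.1 = 2 * (c.2.1 / 2) + 1 := by omega
        rw [h1]
        push_cast
        rw [CharTwo.two_eq_zero, zero_mul, zero_add]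
      simp [this, h, W_cons]

theorem W_step : ∀ w : List ℕ, W C (step D w) = W C w
  | [] => rfl
  | [a] => rfl
  | a :: b :: l => by
    rw [step]
    split_ifs with h1 h2
    · rw [beq_iff_eq] at h1
      subst h1
      rw [W_cons, W_cons, ← mul_assoc, ← C.xGL_add, CharTwo.add_self_eq_zero, C.xGL_zero, one_mul]
    · simp only [Bool.and_eq_true, decide_eq_true_eq, bne_iff_ne] at h2
      obtain ⟨⟨hba, ha⟩, hneg⟩ := h2
      rw [W_cons, W_cons, W_cons, W_cons, W_append, ← mul_assoc, ← mul_assoc, ← mul_assoc,
        C.xGL_comm (lt_trans hba ha) ha (ne_of_gt hba) hneg]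
      congr 2
      simp only [ChevalleyDatum.commWord, CharTwo.neg_eq]
      exact (wordGL_terms C (D.commTerms b a)).symm
    · rw [W_cons, W_step (b :: l), W_cons C a (b :: l)]

theorem W_collect : ∀ (n : ℕ) (w : List ℕ), W C (collect D n w) = W C w
  | 0, _ => rfl
  | n + 1, w => (W_collect n (step D w)).trans (W_step C w)

theorem W_eq_of_collect {v w : List ℕ} (n : ℕ) (h : collect D n v = collect D n w) :
    W C v = W C w := by
  rw [← W_collect C n v, h, W_collect]

theorem W_ne_one {pos : ℕ → Bool} (hpos : ∀ r, pos r = true → D.IsPosRoot r) {w : List ℕ}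
    (h : nontrivialWord D pos w = true) : W C w ≠ 1 := by
  simp only [nontrivialWord, Bool.and_eq_true, Bool.not_eq_true', decide_eq_true_eq,
    List.all_eq_true] at h
  obtain ⟨⟨hne, hp⟩, hall⟩ := h
  rw [← W_collect C 400 w]
  intro he
  have hz : ∀ L : List ℕ, C.word L (fun _ => (0 : F)) = 1 := by
    intro L
    induction L with
    | nil => rfl
    | cons a L ih => rw [C.word_cons, ih, C.xGL_zero, one_mul]
  generalize collect D 400 w = L at hne hp hall he
  match L, hne with
  | a :: L', _ =>
    exact one_ne_zero (C.word_injective hp (fun r hr => hpos r (hall r hr)) (fun _ => (1 : F))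
      (fun _ => 0) (he.trans (hz _).symm) a List.mem_cons_self)

/-- Three checked words in a subgroup give 2-rank three. -/
theorem of_words {pos : ℕ → Bool} (hpos : ∀ r, pos r = true → D.IsPosRoot r) {a b c : List ℕ}
    (h : tripleOK D pos a b c = true) {G1 : Subgroup (GL D.Idx F)} (ha : W C a ∈ G1)
    (hb : W C b ∈ G1) (hc : W C c ∈ G1) : Cfsg.PRankAtLeast 2 3 G1 := by
  simp only [tripleOK, Bool.and_eq_true, beq_iff_eq, List.all_eq_true] at h
  obtain ⟨⟨⟨⟨⟨⟨a2, b2⟩, c2⟩, ab⟩, ac⟩, bc⟩, hne⟩ := h
  have sq : ∀ w : List ℕ, collect D 400 (w ++ w) = [] → W C w * W C w = 1 := fun w hw => by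
    rw [← W_append, ← W_collect C 400, hw, W_nil]
  have cm : ∀ v w : List ℕ, collect D 400 (v ++ w) = collect D 400 (w ++ v) →
      W C v * W C w = W C w * W C v := fun v w hvw => by
    rw [← W_append, ← W_append]; exact W_eq_of_collect C 400 hvw
  refine of_triple (a := (⟨_, ha⟩ : G1)) (b := ⟨_, hb⟩) (c := ⟨_, hc⟩) (Subtype.ext (sq a a2))
    (Subtype.ext (sq b b2)) (Subtype.ext (sq c c2)) (Subtype.ext (cm a b ab))
    (Subtype.ext (cm a c ac)) (Subtype.ext (cm b c bc)) fun i j k hijk => ?_
  have h' := congrArg Subtype.val hijk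
  simp only [Subgroup.coe_mul, SubmonoidClass.coe_pow, OneMemClass.coe_one] at h'
  have key : ∀ w ∈ [a, b, c, a ++ b, a ++ c, b ++ c, a ++ b ++ c], W C w ≠ 1 :=
    fun w hw => W_ne_one C hpos (hne w hw)
  fin_cases i <;> fin_cases j <;> fin_cases k <;>
    simp only [pow_zero, pow_one, one_mul, mul_one] at h' <;>
    first
      | exact ⟨rfl, rfl, rfl⟩
      | exact absurd h' (key a (by simp))
      | exact absurd h' (key b (by simp))
      | exact absurd h' (key c (by simp))
      | exact absurd ((W_append C a b).trans h') (key (a ++ b) (by simp))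
      | exact absurd ((W_append C a c).trans h') (key (a ++ c) (by simp))
      | exact absurd ((W_append C b c).trans h') (key (b ++ c) (by simp))
      | exact absurd (((W_append C (a ++ b) c).trans (by rw [W_append])).trans h')
          (key (a ++ b ++ c) (by simp))

end CfsgLib.RankThree
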